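import Mathlib
import Groth.Agent.Lib.Helper3.GeomReducedProd

set_option linter.style.haveILetI false
set_option linter.unusedVariables false
set_option linter.unusedSectionVars false
set_option autoImplicit false
set_option backward.isDefEq.respectTransparency.types false
set_option synthInstance.maxHeartbeats 400000
set_option maxHeartbeats 1600000

namespace Groth.Agent.Helper7.ClosedDesc

open CategoryTheory CategoryTheory.Limits AlgebraicGeometry TopologicalSpace Opposite IsLocalRing

universe u

/-! helper7: closed subsets of separable field base changes: defined over the base iff the reduced structure is -/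

/-- the closed subscheme of an ideal sheaf with radical ideals is reduced -/
theorem isReduced_subscheme_of_isRadical {Y : Scheme.{u}} (I : Y.IdealSheafData)
    (h : ∀ U, (I.ideal U).IsRadical) : IsReduced I.subscheme := by
  refine @IsReduced.of_openCover _ I.subschemeCover.openCover ?_
  intro U
  show IsReduced (Spec (CommRingCat.of (Γ(Y, U.1) ⧸ I.ideal U)))
  haveI : _root_.IsReduced (Γ(Y, U.1) ⧸ I.ideal U) := by
    rw [← Ideal.isRadical_iff_quotient_reduced]
    exact h U
  infer_instance

/-- the reduced induced closed subscheme is reduced -/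
theorem isReduced_vanishingIdeal_subscheme {Y : Scheme.{u}} (T : TopologicalSpace.Closeds Y) :
    IsReduced (Scheme.IdealSheafData.vanishingIdeal T).subscheme :=
  isReduced_subscheme_of_isRadical _ fun U => by
    rw [Scheme.IdealSheafData.vanishingIdeal_ideal]
    exact PrimeSpectrum.isRadical_vanishingIdeal _

/-- an ideal sheaf with reduced closed subscheme is the vanishing ideal of its support -/
theorem eq_vanishingIdeal_support_of_isReduced {W : Scheme.{u}} (I : W.IdealSheafData)
    [IsReduced I.subscheme] : I = Scheme.IdealSheafData.vanishingIdeal I.support := by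
  rw [Scheme.IdealSheafData.vanishingIdeal_support]
  apply Scheme.IdealSheafData.ext
  funext U
  rw [Scheme.IdealSheafData.radical_ideal]
  have hrad : (I.ideal U).IsRadical := by
    rw [Ideal.isRadical_iff_quotient_reduced]
    have e := (I.subschemeObjIso U).commRingCatIsoToRingEquiv
    exact isReduced_of_injective e.symm.toRingHom e.symm.injective
  exact hrad.radical.symm

section Sch

variable {k' k'' : Type u} [Field k'] [Field k''] [Algebra k' k'']

local notation "𝕋" => Spec.map (CommRingCat.ofHom (algebraMap k' k''))

/-- closed subsets of a separable base change are defined over the base iff their reduced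
structures are -/
theorem main {Y : Scheme.{u}} (fY : Y ⟶ Spec (CommRingCat.of k')) [GeometricallyReduced 𝕋]
    (T : TopologicalSpace.Closeds ↥(pullback fY 𝕋)) :
    (∃ T' : TopologicalSpace.Closeds ↥Y,
        (T : Set ↥(pullback fY 𝕋)) = ⇑(pullback.fst fY 𝕋) ⁻¹' (T' : Set ↥Y)) ↔
      ∃ J : Y.IdealSheafData,
        J.comap (pullback.fst fY 𝕋) = Scheme.IdealSheafData.vanishingIdeal T := by
  constructor
  · rintro ⟨T', hT'⟩
    refine ⟨Scheme.IdealSheafData.vanishingIdeal T', ?_⟩
    obtain ⟨J, hJ⟩ : ∃ J, J = Scheme.IdealSheafData.vanishingIdeal T' := ⟨_, rfl⟩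
    rw [← hJ]
    haveI : IsReduced J.subscheme := by
      rw [hJ]
      exact isReduced_vanishingIdeal_subscheme T'
    haveI hred : IsReduced (pullback (J.subschemeι ≫ fY) 𝕋) := by
      haveI : IsReduced (pullback 𝕋 (J.subschemeι ≫ fY)) :=
        Groth.Agent.Helper3.isReduced_pullback_of_geometricallyReduced 𝕋 (J.subschemeι ≫ fY)
      exact isReduced_of_isOpenImmersion (pullbackSymmetry (J.subschemeι ≫ fY) 𝕋).hom
    obtain ⟨j, hjdef⟩ : ∃ j : pullback (J.subschemeι ≫ fY) 𝕋 ⟶ pullback fY 𝕋,
        j = pullback.map (J.subschemeι ≫ fY) 𝕋 fY 𝕋 J.subschemeι (𝟙 _) (𝟙 _)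
          (Category.comp_id _) ((Category.comp_id _).trans (Category.id_comp _).symm) := ⟨_, rfl⟩
    have hj1 : j ≫ pullback.fst fY 𝕋 = pullback.fst (J.subschemeι ≫ fY) 𝕋 ≫ J.subschemeι := by
      rw [hjdef]; exact pullback.lift_fst _ _ _
    have hj2 : j ≫ pullback.snd fY 𝕋 = pullback.snd (J.subschemeι ≫ fY) 𝕋 := by
      rw [hjdef]; exact (pullback.lift_snd _ _ _).trans (Category.comp_id _)
    have hsq : IsPullback j (pullback.fst (J.subschemeι ≫ fY) 𝕋) (pullback.fst fY 𝕋)
        J.subschemeι := by
      refine IsPullback.of_right ?_ hj1 (IsPullback.of_hasPullback fY 𝕋).flip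
      rw [hj2]
      exact (IsPullback.of_hasPullback (J.subschemeι ≫ fY) 𝕋).flip
    haveI : IsReduced (pullback (pullback.fst fY 𝕋) J.subschemeι) :=
      isReduced_of_isOpenImmersion hsq.isoPullback.inv
    haveI : IsReduced (J.comap (pullback.fst fY 𝕋)).subscheme :=
      isReduced_of_isOpenImmersion (J.comapIso (pullback.fst fY 𝕋)).hom
    rw [eq_vanishingIdeal_support_of_isReduced (J.comap (pullback.fst fY 𝕋))]
    congr 1
    apply TopologicalSpace.Closeds.ext
    rw [Scheme.IdealSheafData.support_comap, TopologicalSpace.Closeds.coe_preimage, hT', hJ,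
      Scheme.IdealSheafData.coe_support_vanishingIdeal]
  · rintro ⟨J, hJ⟩
    refine ⟨J.support, ?_⟩
    have h1 := congrArg (fun I => (Scheme.IdealSheafData.support I : Set ↥(pullback fY 𝕋))) hJ
    simp only [Scheme.IdealSheafData.support_comap, TopologicalSpace.Closeds.coe_preimage,
      Scheme.IdealSheafData.coe_support_vanishingIdeal] at h1
    exact h1.symm

end Sch

end Groth.Agent.Helper7.ClosedDesc
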